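import Groth.Agent.HomLocus.Basic
import Groth.Agent.UnramFibre.Basic
import Groth.Agent.Unram.Pointwise
import Mathlib.AlgebraicGeometry.ZariskisMainTheorem
import Mathlib.AlgebraicGeometry.Morphisms.UniversallyOpen

/-!
# Quasi-finiteness and unramifiedness as pointwise properties
-/

set_option autoImplicit false

universe u

open CategoryTheory Limits AlgebraicGeometry

namespace Groth.Agent.HomLocus

/-- Unramified at a point: the stalk map is formally unramified. -/
noncomputable def unramPt : PointProp.{u} @FormallyUnramified where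
  At f x := (f.stalkMap x).hom.FormallyUnramified
  nhd_iff f _ x := Unram.unramified_nhd_iff f x
  all_iff f _ := Unram.formallyUnramified_iff_stalkMap f
  comp_openImm j f _ x := by
    rw [Scheme.Hom.stalkMap_comp]
    exact RingHom.FormallyUnramified.respectsIso.cancel_right_isIso _ _
  of_baseChange f _ g x h := UnramFibre.formallyUnramified_stalkMap_of_baseChange f g x h

section QF

variable {X Y Y' : Scheme.{u}} (f : X ⟶ Y)

lemma isOpen_asFiber_iff {y : Y} {x : X} (hy : f x = y) :
    IsOpen {f.asFiber x} ↔ IsOpen ((f.fiberι y) ⁻¹' {x}) := by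
  subst hy
  have : (f.fiberι (f x)) ⁻¹' {x} = {f.asFiber x} := by
    ext z
    simp only [Set.mem_preimage, Set.mem_singleton_iff]
    exact ⟨fun h => (f.fiberι _).isEmbedding.injective (h.trans (f.fiberι_asFiber x).symm),
      fun h => h ▸ f.fiberι_asFiber x⟩
  rw [this]

lemma quasiFiniteAt_of_baseChange [LocallyOfFiniteType f] (g : Y' ⟶ Y) (x' : ↑(pullback f g))
    (h : (pullback.snd f g).QuasiFiniteAt x') : f.QuasiFiniteAt (pullback.fst f g x') := by
  let f' := pullback.snd f g
  let x := pullback.fst f g x'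
  let y' := f' x'
  have hxy : f x = g y' := by
    rw [← Scheme.Hom.comp_apply, ← Scheme.Hom.comp_apply, pullback.condition]
  let r := Spec.map (g.residueFieldMap y')
  have hr : Y'.fromSpecResidueField y' ≫ g = r ≫ Y.fromSpecResidueField (g y') :=
    (Scheme.Hom.SpecMap_residueFieldMap_fromSpecResidueField g y').symm
  let φ : f'.fiber y' ⟶ f.fiber (g y') :=
    pullback.map _ _ _ _ (pullback.fst f g) r g pullback.condition.symm hr
  have hφ : IsPullback φ (f'.fiberToSpecResidueField y') (f.fiberToSpecResidueField (g y')) r := by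
    have h2 : φ ≫ f.fiberToSpecResidueField (g y') = f'.fiberToSpecResidueField y' ≫ r :=
      pullback.lift_snd _ _ _
    refine IsPullback.of_right (h₁₂ := f.fiberι (g y')) (v₁₃ := f) (h₂₂ := Y.fromSpecResidueField (g y'))
      ?_ h2 (IsPullback.of_hasPullback f _)
    have h3 : φ ≫ f.fiberι (g y') = f'.fiberι y' ≫ pullback.fst f g := pullback.lift_fst _ _ _
    rw [← hr, h3]
    exact (IsPullback.of_hasPullback f' (Y'.fromSpecResidueField y')).paste_horiz
      (IsPullback.of_hasPullback f g)
  have : UniversallyOpen φ :=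
    MorphismProperty.of_isPullback (P := @UniversallyOpen) hφ.flip inferInstance
  rw [Scheme.Hom.quasiFiniteAt_iff_isOpen_singleton_asFiber, isOpen_asFiber_iff f hxy]
  have h0 : IsOpen ((f'.fiberι y') ⁻¹' {x'}) :=
    (isOpen_asFiber_iff f' rfl).1 (Scheme.Hom.quasiFiniteAt_iff_isOpen_singleton_asFiber.1 h)
  obtain ⟨z, hz⟩ : x' ∈ Set.range (f'.fiberι y') := by rw [f'.range_fiberι]; rfl
  have hcomm : ∀ w, f.fiberι (g y') (φ w) = pullback.fst f g (f'.fiberι y' w) := fun w => by
    show (φ ≫ f.fiberι (g y')) w = (f'.fiberι y' ≫ pullback.fst f g) w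
    exact congrArg (fun (q : f'.fiber y' ⟶ X) => q w) (pullback.lift_fst _ _ _)
  have : φ '' ((f'.fiberι y') ⁻¹' {x'}) = (f.fiberι (g y')) ⁻¹' {x} := by
    ext w
    constructor
    · rintro ⟨v, hv, rfl⟩
      show f.fiberι (g y') (φ v) = x
      rw [hcomm, show f'.fiberι y' v = x' from hv]
    · intro hw
      refine ⟨z, hz, (f.fiberι (g y')).isEmbedding.injective ?_⟩
      rw [hcomm, hz]
      exact hw.symm
  rw [← this]
  exact φ.isOpenMap _ h0

end QF

/-- Quasi-finite at a point. -/
noncomputable def qfPt : PointProp.{u} @LocallyQuasiFinite where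
  At f x := f.QuasiFiniteAt x
  nhd_iff f _ x := by
    constructor
    · rintro ⟨W, hx, hW⟩
      exact (Scheme.Hom.quasiFiniteAt_comp_iff_of_isOpenImmersion (f := W.ι) (g := f) (x := ⟨x, hx⟩)).1
        (Scheme.Hom.quasiFiniteAt _ _)
    · exact fun hx => ⟨f.quasiFiniteLocus, hx, inferInstance⟩
  all_iff f _ := by
    rw [← f.quasiFiniteLocus_eq_top_iff]
    exact ⟨fun h x => h.ge (Set.mem_univ x), fun h => top_le_iff.1 fun x _ => h x⟩
  comp_openImm j f _ x := Scheme.Hom.quasiFiniteAt_comp_iff_of_isOpenImmersion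
  of_baseChange f _ g x h := quasiFiniteAt_of_baseChange f g x h

end Groth.Agent.HomLocus
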