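import Groth.Agent.GrpSch.OverBase
import Mathlib.AlgebraicGeometry.Morphisms.FiniteType
import Mathlib.AlgebraicGeometry.Fiber
import Mathlib.CategoryTheory.MorphismProperty.Limits

/-!
# The locus of a pointwise property of a homomorphism of group schemes

For a pointwise property `At` (quasi-finite, unramified) compatible with arbitrary base change, the
points of `G` at which a homomorphism `u : G ⟶ H` satisfies it are the inverse image of the open set
of `s : S` at which the kernel satisfies it along the unit section.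
-/

set_option autoImplicit false

universe v u

open CategoryTheory MonoidalCategory CartesianMonoidalCategory MonObj GrpObj Limits AlgebraicGeometry

namespace Groth.Agent.HomLocus

section Cat

variable {C : Type u} [Category.{v} C] [CartesianMonoidalCategory C] {G H K P : C} [GrpObj G] [GrpObj H]
  {u : G ⟶ H} [IsMonHom u] {i : K ⟶ G} {p q : P ⟶ G}

/-- `G ×_H G ≅ G × ker u`. -/
lemma exists_isPullback_shear (hK : IsPullback i (toUnit K) u η[H]) (hP : IsPullback p q u u) :
    ∃ k : P ⟶ K, k ≫ i = p⁻¹ * q ∧ IsPullback p k (toUnit G) (toUnit K) := by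
  have h1 : (p⁻¹ * q) ≫ u = toUnit P ≫ η[H] := by
    rw [MonObj.mul_comp, GrpObj.inv_comp, hP.w, inv_mul_cancel]
    rfl
  let k := hK.lift (p⁻¹ * q) (toUnit P) h1
  have hk : k ≫ i = p⁻¹ * q := hK.lift_fst _ _ _
  refine ⟨k, hk, IsPullback.of_isLimit' ⟨toUnit_unique _ _⟩ ?_⟩
  refine PullbackCone.IsLimit.mk _ (fun s => hP.lift s.fst (s.fst * (s.snd ≫ i)) ?_)
    (fun s => hP.lift_fst _ _ _) (fun s => ?_) (fun s m hm₁ hm₂ => ?_)
  · rw [MonObj.mul_comp, Category.assoc, hK.w, ← Category.assoc, comp_toUnit]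
    exact (_root_.mul_one _).symm
  · refine hK.hom_ext ?_ (toUnit_unique _ _)
    rw [Category.assoc, hk, MonObj.comp_mul, GrpObj.comp_inv, hP.lift_fst, hP.lift_snd,
      inv_mul_cancel_left]
  · refine hP.hom_ext (hm₁.trans (hP.lift_fst _ _ _).symm) ?_
    rw [hP.lift_snd, ← hm₂, Category.assoc, hk, MonObj.comp_mul, GrpObj.comp_inv, hm₁,
      mul_inv_cancel_left]

lemma exists_unit (hK : IsPullback i (toUnit K) u η[H]) :
    ∃ e : 𝟙_ C ⟶ K, e ≫ i = η[G] :=
  ⟨hK.lift η[G] (𝟙 _) (by rw [IsMonHom.one_hom, Category.id_comp]), hK.lift_fst _ _ _⟩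

lemma exists_diag {k : P ⟶ K} (hK : IsPullback i (toUnit K) u η[H]) (hP : IsPullback p q u u)
    (hk : k ≫ i = p⁻¹ * q) {e : 𝟙_ C ⟶ K} (he : e ≫ i = η[G]) :
    ∃ d : G ⟶ P, d ≫ p = 𝟙 G ∧ d ≫ q = 𝟙 G ∧ d ≫ k = toUnit G ≫ e := by
  refine ⟨hP.lift (𝟙 G) (𝟙 G) rfl, hP.lift_fst _ _ _, hP.lift_snd _ _ _,
    hK.hom_ext ?_ (toUnit_unique _ _)⟩
  rw [Category.assoc, hk, Category.assoc, he, MonObj.comp_mul, GrpObj.comp_inv, hP.lift_fst,
    hP.lift_snd, inv_mul_cancel]
  rfl

end Cat

/-- A property of morphisms of schemes given pointwise on the source, compatible with base change. -/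
structure PointProp (P : MorphismProperty Scheme.{u}) where
  At : ∀ {X Y : Scheme.{u}}, (X ⟶ Y) → X → Prop
  nhd_iff : ∀ {X Y : Scheme.{u}} (f : X ⟶ Y) [LocallyOfFiniteType f] (x : X),
    (∃ W : X.Opens, x ∈ W ∧ P (W.ι ≫ f)) ↔ At f x
  all_iff : ∀ {X Y : Scheme.{u}} (f : X ⟶ Y) [LocallyOfFiniteType f], P f ↔ ∀ x, At f x
  comp_openImm : ∀ {X Y Z : Scheme.{u}} (j : X ⟶ Y) (f : Y ⟶ Z) [IsOpenImmersion j] (x : X),
    At (j ≫ f) x ↔ At f (j x)
  of_baseChange : ∀ {X Y Y' : Scheme.{u}} (f : X ⟶ Y) [LocallyOfFiniteType f] (g : Y' ⟶ Y)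
    (x : ↑(pullback f g)), At (pullback.snd f g) x → At f (pullback.fst f g x)

namespace PointProp

variable {P : MorphismProperty Scheme.{u}} (Q : PointProp P)

lemma isOpen_at {X Y : Scheme.{u}} (f : X ⟶ Y) [LocallyOfFiniteType f] :
    IsOpen {x | Q.At f x} := by
  rw [isOpen_iff_forall_mem_open]
  intro x hx
  obtain ⟨W, hxW, hW⟩ := (Q.nhd_iff f x).2 hx
  exact ⟨W, fun y hy => (Q.nhd_iff f y).1 ⟨W, hy, hW⟩, W.2, hxW⟩

variable [P.IsStableUnderBaseChange]

lemma baseChange_iff {X Y Y' : Scheme.{u}} (f : X ⟶ Y) [LocallyOfFiniteType f] (g : Y' ⟶ Y)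
    (x : ↑(pullback f g)) : Q.At (pullback.snd f g) x ↔ Q.At f (pullback.fst f g x) := by
  refine ⟨Q.of_baseChange f g x, fun h => ?_⟩
  obtain ⟨W, hxW, hW⟩ := (Q.nhd_iff f _).2 h
  have hall := (Q.all_iff (pullback.snd (W.ι ≫ f) g)).1 (P.pullback_snd _ _ hW)
  have hx : x ∈ Set.range (pullback.snd W.ι (pullback.fst f g)) := by
    rw [Scheme.Pullback.range_snd, Scheme.Opens.range_ι]
    exact hxW
  obtain ⟨w, rfl⟩ := hx
  let e := pullbackRightPullbackFstIso f g W.ι
  have he : pullback.snd W.ι (pullback.fst f g) ≫ pullback.snd f g =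
      e.hom ≫ pullback.snd (W.ι ≫ f) g :=
    (pullbackRightPullbackFstIso_hom_snd f g W.ι).symm
  rw [← Q.comp_openImm, he, Q.comp_openImm]
  exact hall _

lemma isPullback_iff {X X' Y Y' : Scheme.{u}} {a : X' ⟶ X} {f' : X' ⟶ Y'} {f : X ⟶ Y} {g : Y' ⟶ Y}
    [LocallyOfFiniteType f] (h : IsPullback a f' f g) (x : X') :
    Q.At f' x ↔ Q.At f (a x) := by
  rw [← h.isoPullback_hom_snd, Q.comp_openImm, Q.baseChange_iff, ← Scheme.Hom.comp_apply,
    h.isoPullback_hom_fst]

variable {S : Scheme.{u}} {G H K : Over S} [GrpObj G] [GrpObj H] {u : G ⟶ H} [IsMonHom u]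
  {i : K ⟶ G}

lemma kernel_property {R : MorphismProperty Scheme.{u}} [R.IsStableUnderBaseChange]
    (hK : IsPullback i (toUnit K) u η[H]) (h : R u.left) : R K.hom := by
  have h' := R.of_isPullback (GrpSch.isPullback_left hK) h
  simpa using h'

lemma at_iff_unit [LocallyOfFiniteType u.left] (hK : IsPullback i (toUnit K) u η[H])
    {e : 𝟙_ (Over S) ⟶ K} (he : e ≫ i = η[G]) (g : G.left) :
    Q.At u.left g ↔ Q.At K.hom (e.left (G.hom g)) := by
  have hP : IsPullback (pullback.fst u u) (pullback.snd u u) u u := IsPullback.of_hasPullback u u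
  obtain ⟨k, hk, hsh⟩ := exists_isPullback_shear hK hP
  obtain ⟨d, hd1, hd2, hd3⟩ := exists_diag hK hP hk he
  have hKlft : LocallyOfFiniteType K.hom := kernel_property (R := @LocallyOfFiniteType) hK inferInstance
  have h1 := Q.isPullback_iff (GrpSch.isPullback_left hP).flip (d.left g)
  have h2 : Q.At (pullback.fst u u).left (d.left g) ↔ Q.At K.hom (k.left (d.left g)) := by
    have := (GrpSch.isPullback_left hsh).flip
    simp only [Over.toUnit_left] at this
    exact Q.isPullback_iff this _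
  rw [← Scheme.Hom.comp_apply, ← Over.comp_left, hd2] at h1
  rw [← Scheme.Hom.comp_apply, ← Over.comp_left, hd3, Over.comp_left, Scheme.Hom.comp_apply,
    Over.toUnit_left] at h2
  exact h1.symm.trans h2

variable (G H) in
omit [GrpObj G] [GrpObj H] [P.IsStableUnderBaseChange] in
lemma isPullback_pullbackMap (u : G ⟶ H) {T : Scheme.{u}} (t : T ⟶ S) :
    IsPullback (pullback.fst G.hom t) ((Over.pullback t).map u).left u.left (pullback.fst H.hom t) := by
  refine IsPullback.of_bot ?_ ?_ (IsPullback.of_hasPullback H.hom t)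
  · rw [Over.w u]
    convert (IsPullback.of_hasPullback G.hom t) using 1
    exact pullback.lift_snd _ _ _
  · exact (pullback.lift_fst _ _ _).symm

lemma fibre_iff [LocallyOfFiniteType u.left] (s : S) :
    P ((Over.pullback (S.fromSpecResidueField s)).map u).left ↔
      ∀ g : G.left, G.hom g = s → Q.At u.left g := by
  have hpb := isPullback_pullbackMap G H u (S.fromSpecResidueField s)
  have : LocallyOfFiniteType ((Over.pullback (S.fromSpecResidueField s)).map u).left :=
    MorphismProperty.of_isPullback (P := @LocallyOfFiniteType) hpb inferInstance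
  rw [Q.all_iff]
  constructor
  · intro h g hg
    have : g ∈ Set.range (pullback.fst G.hom (S.fromSpecResidueField s)) := by
      rw [Scheme.Pullback.range_fst, Scheme.range_fromSpecResidueField]
      exact hg
    obtain ⟨z, rfl⟩ := this
    exact (Q.isPullback_iff hpb z).1 (h z)
  · intro h z
    refine (Q.isPullback_iff hpb z).2 (h _ ?_)
    have : pullback.fst G.hom (S.fromSpecResidueField s) z ∈ G.hom ⁻¹' {s} := by
      rw [← Scheme.range_fromSpecResidueField, ← Scheme.Pullback.range_fst]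
      exact ⟨z, rfl⟩
    exact this

variable [LocallyOfFiniteType u.left] (hK : IsPullback i (toUnit K) u η[H])
  {e : 𝟙_ (Over S) ⟶ K} (he : e ≫ i = η[G])

include Q hK he

lemma fibre_iff_unit (s : S) :
    P ((Over.pullback (S.fromSpecResidueField s)).map u).left ↔ Q.At K.hom (e.left s) := by
  rw [Q.fibre_iff]
  refine ⟨fun h => ?_, fun h g hg => (Q.at_iff_unit hK he g).2 (hg ▸ h)⟩
  have hs : G.hom (η[G].left s) = s := by
    rw [← Scheme.Hom.comp_apply, Over.w]
    rfl
  have := (Q.at_iff_unit hK he _).1 (h _ hs)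
  rwa [hs] at this

lemma iff_unit : P u.left ↔ ∀ s : S, Q.At K.hom (e.left s) := by
  rw [Q.all_iff]
  refine ⟨fun h s => ?_, fun h g => (Q.at_iff_unit hK he g).2 (h _)⟩
  exact (Q.fibre_iff_unit hK he s).1 ((Q.fibre_iff s).2 fun g _ => h g)

omit he in
lemma iff_fibres : P u.left ↔ ∀ s : S, P ((Over.pullback (S.fromSpecResidueField s)).map u).left := by
  obtain ⟨e, he⟩ := exists_unit hK
  rw [Q.iff_unit hK he]
  exact forall_congr' fun s => (Q.fibre_iff_unit hK he s).symm

omit he in
lemma iff_kernel : P u.left ↔ P K.hom := by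
  refine ⟨kernel_property hK, fun h => ?_⟩
  obtain ⟨e, he⟩ := exists_unit hK
  have : LocallyOfFiniteType K.hom := kernel_property (R := @LocallyOfFiniteType) hK inferInstance
  exact (Q.iff_unit hK he).2 fun s => (Q.all_iff K.hom).1 h _

end PointProp

/-- The locus statement, without reference to the kernel. -/
theorem PointProp.locus {P : MorphismProperty Scheme.{u}} [P.IsStableUnderBaseChange] (Q : PointProp P)
    {S : Scheme.{u}} (G H : Over S) [GrpObj G] [GrpObj H] (u : G ⟶ H) [IsMonHom u]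
    [LocallyOfFiniteType u.left] :
    IsOpen {s : S | P ((Over.pullback (S.fromSpecResidueField s)).map u).left} ∧
    {x : G.left | ∃ W : G.left.Opens, x ∈ W ∧ P (W.ι ≫ u.left)} =
      G.hom.base ⁻¹' {s : S | P ((Over.pullback (S.fromSpecResidueField s)).map u).left} := by
  have hK : IsPullback (pullback.fst u η[H]) (toUnit _) u η[H] := by
    rw [← toUnit_unique (pullback.snd u η[H]) (toUnit _)]
    exact IsPullback.of_hasPullback u η[H]
  obtain ⟨e, he⟩ := exists_unit hK
  have : LocallyOfFiniteType (pullback u η[H]).hom :=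
    PointProp.kernel_property (R := @LocallyOfFiniteType) hK inferInstance
  constructor
  · simp_rw [Q.fibre_iff_unit hK he]
    exact (Q.isOpen_at (pullback u η[H]).hom).preimage e.left.continuous
  · ext g
    refine (Q.nhd_iff u.left g).trans ((Q.at_iff_unit hK he g).trans ?_)
    exact (Q.fibre_iff_unit hK he _).symm

end Groth.Agent.HomLocus
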