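import Groth.Agent.GrpSch.OverBase
import Mathlib.AlgebraicGeometry.Morphisms.FormallyUnramified
import Mathlib.AlgebraicGeometry.Morphisms.FinitePresentation
import Mathlib.AlgebraicGeometry.Fiber
import Mathlib.LinearAlgebra.FreeModule.Basic
import Mathlib.RingTheory.Noetherian.Basic

/-!
# Open diagonal over a field
-/

set_option autoImplicit false

universe u

open CategoryTheory Limits AlgebraicGeometry
open scoped TensorProduct

namespace Groth.Agent.HomLocus

/-- A free algebra with a separability idempotent is a finitely generated module. -/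
theorem finite_of_separability {R B : Type u} [CommRing R] [CommRing B] [Algebra R B] [Module.Free R B]
    (t : B ⊗[R] B) (h1 : Algebra.TensorProduct.lmul' R (S := B) t = 1)
    (h2 : ∀ z : B, (z ⊗ₜ[R] 1) * t = (1 ⊗ₜ[R] z) * t) : Module.Finite R B := by
  classical
  let b := Module.Free.chooseBasis R B
  obtain ⟨S, hS⟩ := TensorProduct.exists_finset t
  let J := S.biUnion fun p => (b.repr p.1).support
  refine ⟨⟨(J ×ˢ S).image fun q => b q.1 * q.2.2, eq_top_iff.2 fun z _ => ?_⟩⟩
  have hz : ∀ φ : B →ₗ[R] R, z * ∑ p ∈ S, φ p.1 • p.2 = ∑ p ∈ S, φ (z * p.1) • p.2 := by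
    intro φ
    have := congrArg ((TensorProduct.lid R B).toLinearMap ∘ₗ φ.rTensor B) (h2 z)
    rw [hS, Finset.mul_sum, Finset.mul_sum, map_sum, map_sum] at this
    simp only [Algebra.TensorProduct.tmul_mul_tmul, one_mul, LinearMap.coe_comp, LinearEquiv.coe_coe,
      Function.comp_apply, LinearMap.rTensor_tmul, TensorProduct.lid_tmul] at this
    simp only [Finset.mul_sum, Algebra.mul_smul_comm]
    exact this.symm
  have h3 : ∑ p ∈ S, p.1 * p.2 = 1 := by
    rw [← h1, hS, map_sum]
    simp
  have h4 : ∀ p ∈ S, p.1 = ∑ j ∈ J, b.repr p.1 j • b j := by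
    intro p hp
    conv_lhs => rw [← b.linearCombination_repr p.1, Finsupp.linearCombination_apply]
    refine Finset.sum_subset (fun j hj => Finset.mem_biUnion.2 ⟨p, hp, hj⟩) ?_
    intro j _ hj
    exact zero_smul R (b j) ▸ (by simp [Finsupp.notMem_support_iff.1 hj])
  have h5 : z = ∑ j ∈ J, b j * ∑ p ∈ S, (b.coord j) (z * p.1) • p.2 := by
    simp_rw [← hz]
    calc z = z * ∑ p ∈ S, p.1 * p.2 := by rw [h3, mul_one]
      _ = z * ∑ p ∈ S, ∑ j ∈ J, b j * (b.repr p.1 j • p.2) := by
          refine congrArg (z * ·) (Finset.sum_congr rfl fun p hp => ?_)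
          conv_lhs => rw [h4 p hp, Finset.sum_mul]
          simp only [Algebra.smul_mul_assoc, Algebra.mul_smul_comm]
      _ = _ := by
          rw [Finset.sum_comm, Finset.mul_sum]
          refine Finset.sum_congr rfl fun j _ => ?_
          rw [mul_left_comm, Finset.mul_sum (a := b j)]
          simp only [Module.Basis.coord_apply]
  rw [h5]
  refine Submodule.sum_mem _ fun j hj => ?_
  rw [Finset.mul_sum]
  refine Submodule.sum_mem _ fun p hp => ?_
  rw [Algebra.mul_smul_comm]
  exact Submodule.smul_mem _ _ (Submodule.subset_span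
    (Finset.mem_image.2 ⟨(j, p), Finset.mem_product.2 ⟨hj, hp⟩, rfl⟩))

theorem finite_of_isOpenImmersion_lmul {k B : Type u} [Field k] [CommRing B] [Algebra k B]
    [IsOpenImmersion (Spec.map (CommRingCat.ofHom (Algebra.TensorProduct.lmul' k (S := B)).toRingHom))] :
    Module.Finite k B := by
  let F := (Algebra.TensorProduct.lmul' k (S := B)).toRingHom
  have hF : Function.Surjective F := fun x ↦ ⟨x ⊗ₜ 1, by simp [F]⟩
  obtain ⟨e, he, he'⟩ := (isOpenImmersion_SpecMap_iff_of_surjective _ hF).mp ‹_›
  refine finite_of_separability (1 - e) ?_ fun z => ?_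
  · have : e ∈ RingHom.ker F := he'.ge (Ideal.mem_span_singleton_self e)
    rw [map_sub, map_one, show Algebra.TensorProduct.lmul' k e = 0 from this, sub_zero]
  · have : z ⊗ₜ[k] (1 : B) - 1 ⊗ₜ z ∈ RingHom.ker F := by simp [F]
    obtain ⟨w, hw⟩ := Ideal.mem_span_singleton.1 (he'.le this)
    rw [← sub_eq_zero, ← sub_mul, hw, mul_sub, mul_one, mul_assoc, mul_comm w e, ← mul_assoc, he.eq,
      sub_self]

set_option backward.isDefEq.respectTransparency.types false in
/-- Over a field, open diagonal implies locally of finite presentation. -/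
theorem locallyOfFinitePresentation_of_diagonal {k : Type u} [Field k] {X : Scheme.{u}}
    (f : X ⟶ Spec (CommRingCat.of k)) [IsOpenImmersion (pullback.diagonal f)] :
    LocallyOfFinitePresentation f := by
  let 𝒰 := X.affineOpenCover
  rw [IsZariskiLocalAtSource.iff_of_openCover (P := @LocallyOfFinitePresentation) 𝒰.openCover]
  intro (i : 𝒰.I₀)
  show LocallyOfFinitePresentation (𝒰.f i ≫ f)
  have inst : IsOpenImmersion (pullback.diagonal (𝒰.f i ≫ f)) :=
    MorphismProperty.comp_mem (.diagonal @IsOpenImmersion) _ _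
      (inferInstanceAs (IsOpenImmersion _)) ‹_›
  obtain ⟨φ, hφ⟩ := Spec.map_surjective (𝒰.f i ≫ f)
  rw [← hφ] at inst ⊢
  rw [HasRingHomProperty.Spec_iff (P := @LocallyOfFinitePresentation)]
  algebraize [φ.hom]
  have : IsOpenImmersion
      (Spec.map (CommRingCat.ofHom (Algebra.TensorProduct.lmul' k (S := 𝒰.X i)).toRingHom)) := by
    rwa [← MorphismProperty.cancel_right_of_respectsIso (P := @IsOpenImmersion) _
      (pullbackSpecIso k (𝒰.X i) (𝒰.X i)).inv, ← AlgebraicGeometry.diagonal_SpecMap k (𝒰.X i)]
  have := finite_of_isOpenImmersion_lmul (k := k) (B := 𝒰.X i)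
  exact RingHom.finitePresentation_algebraMap.2 (Algebra.FinitePresentation.of_finiteType.1 inferInstance)

open MonoidalCategory CartesianMonoidalCategory MonObj GrpObj

variable {S : Scheme.{u}} (G : Over S) [GrpObj G]

theorem formallyUnramified_of_openUnit (h : IsOpenImmersion η[G].left) :
    FormallyUnramified G.hom :=
  have := GrpSch.property_diagonal_of_one (P := @IsOpenImmersion) G h
  inferInstance

theorem openUnit_of_formallyUnramified [LocallyOfFiniteType G.hom] [FormallyUnramified G.hom] :
    IsOpenImmersion η[G].left :=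
  GrpSch.property_one_of_diagonal (P := @IsOpenImmersion) G inferInstance

theorem fibre_of_openUnit (h : IsOpenImmersion η[G].left) (s : S) :
    FormallyUnramified (G.hom.fiberToSpecResidueField s) ∧
      LocallyOfFinitePresentation (G.hom.fiberToSpecResidueField s) := by
  have hd := GrpSch.property_diagonal_of_one (P := @IsOpenImmersion) G h
  have : IsOpenImmersion (pullback.diagonal (G.hom.fiberToSpecResidueField s)) :=
    MorphismProperty.pullback_snd (P := .diagonal @IsOpenImmersion) _ _ hd
  have := locallyOfFinitePresentation_of_diagonal (k := S.residueField s) (G.hom.fiberToSpecResidueField s)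
  exact ⟨inferInstance, this⟩

end Groth.Agent.HomLocus
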